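import Cfsg.Agent.Lib.Trans3.Spider.Collapse

/-! Generated coset enumeration certificate A3. -/

set_option autoImplicit false
set_option maxRecDepth 100000

namespace CfsgLib.Trans3.Spider.A3

open CfsgLib.InvChar.Coset

/-- facts -/
noncomputable def facts : Tr := (.leaf 0x4300004000042000040000410000400003300003000032000030000230000200002000002000011000010000100000100000200000000001000000000000000000004000003000031000020000220000100001300000)
/-- justifications -/
noncomputable def just : Tr := (.leaf 0x30000c00003004080040080000c0002c0000c0101001002000030000200009000020000300400004010000080002800008010400100200002000010000800001000020040c004010000040000000018000000000401050010040000100007000010080400400800000000140000002040010020000000004000000080800400a0002000000800040000020000000000)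
/-- relators -/
def rels : List (List ℕ) := [[0, 1, 0, 1, 0, 1], [0, 2, 0, 2], [0, 3, 0, 3], [1, 2, 1, 2, 1, 2], [1, 3, 1, 3], [2, 3, 2, 3, 2, 3], [0, 0], [1, 1], [2, 2], [3, 3]]
/-- subgroup words -/
def subs : List (List ℕ) := [[0], [1], [2]]
/-- the local letters -/
def emb : List ℕ := [3, 2, 1, 0]
/-- certificate -/
noncomputable def cert : Cert := ⟨4, 16, 4, facts, just, rels, subs⟩
/-- table -/
noncomputable def permTable : Tr := (.leaf 0x400004000040000300003000030000200004000020000100003000020000000002000010000100001000000000000000)
/-- node of a coset -/
noncomputable def live : Tr := (.leaf 0x400003000020000100000)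
/-- fact of an entry -/
noncomputable def fin : Tr := (.leaf 0xf0000e0000d000030000c0000b00002000030000a0000100002000090000000001000080000700000000060000500004)
/-- table -/
noncomputable def table : Table := ⟨5, 4, permTable⟩

end CfsgLib.Trans3.Spider.A3
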